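import Groth.Agent.TwoAffLiftLib.Main
import Groth.Agent.CycKSuppLib.Killed
import Groth.Agent.BlowRegLib.SuppKill
import Groth.Agent.BlowRegLib.Codim
import Groth.Agent.CohGenLib.Twist
import Groth.Agent.ConsLib.ModLoci
import Groth.Agent.SurfExtLib.CBGeom
import Groth.Agent.PerfLib.Coherent
import Groth.Agent.S4357
import Groth.Agent.SerreVanLib.Main
import Groth.Agent.AffStratLib.Dim

/-!
# Vector bundles lift along nilimmersions which are isomorphisms off an affine closed set
-/

set_option autoImplicit false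
set_option linter.style.haveILetI false
set_option linter.unusedSectionVars false
set_option backward.isDefEq.respectTransparency false
set_option maxHeartbeats 1000000
set_option synthInstance.maxHeartbeats 400000

universe u

open CategoryTheory CategoryTheory.Limits AlgebraicGeometry TopologicalSpace Opposite

noncomputable section

namespace ResLiftLib

theorem killed_homMod {X Z : Scheme.{u}} (j : Z ⟶ X) [IsClosedImmersion j] (F G : X.Modules)
    (hG : ClSub.KilledByIdeal j.ker G) : ClSub.KilledByIdeal j.ker (CohCmpLib.homMod F G) := fun U a ha h => by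
  have hk := CycKSuppLib.kil_of_killed j hG
  refine CohCmpLib.homMod_ext fun y hy => LinearMap.ext fun t => ?_
  rw [CohCmpLib.hVal_smul]
  show X.presheaf.germ U.1 y hy a • ((CohCmpLib.hVal h y hy t : (DevissLib.St y).obj G)) = (0 : (DevissLib.St y).obj G)
  by_cases hr : y ∈ Set.range ⇑j
  · obtain ⟨z, rfl⟩ := hr
    refine hk.2 z _ ?_ _
    rw [Scheme.Hom.germ_stalkMap_apply]
    rw [Scheme.Hom.ker_apply, RingHom.mem_ker] at ha
    exact (congrArg _ ha).trans (map_zero _)
  · exact @Subsingleton.elim _ (not_not.mp fun hs => hr (hk.1 hs)) _ _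

theorem subsingleton_ext_supp {X T : Scheme.{u}} [IsNoetherian X] (t : T ⟶ X) [IsClosedImmersion t] [IsAffine T]
    [HasExt.{u} X.Modules] {F : X.Modules} (hF : FlatMod.IsFinLocFree F) {G : X.Modules} (hG : Coh.IsCoh G)
    (hs : CohB1.support G ⊆ Set.range ⇑t) : Subsingleton (Abelian.Ext.{u} F G 2) := by
  haveI : Coh.IsQCoh G := hG.1
  have hts : (t.ker.support : Set X) = Set.range ⇑t := by
    rw [Scheme.Hom.support_ker, t.isClosedEmbedding.isClosed_range.closure_eq]
  obtain ⟨n, hn⟩ := BlowRegLib.exists_killing G t.ker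
    (fun V => by
      haveI := IsLocallyNoetherian.component_noetherian (X := X) V
      exact IsNoetherian.noetherian _)
    hG.2 (hts.symm ▸ hs)
  let J := t.ker ^ (n + 1)
  have hle : J ≤ t.ker := fun U => by
    simp only [J, Scheme.IdealSheafData.ideal_pow, Pi.pow_apply]
    exact Ideal.pow_le_self (Nat.succ_ne_zero n)
  let r : T ⟶ J.subscheme := t.toImage ≫ Scheme.IdealSheafData.inclusion hle
  have hr : r ≫ J.subschemeι = t := by simp [r]
  haveI : IsClosedImmersion (r ≫ J.subschemeι) := by rw [hr]; infer_instance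
  haveI : IsClosedImmersion r := IsClosedImmersion.of_comp r J.subschemeι
  haveI : IsAffine J.subscheme := Groth.Agent.S0440.result r fun z => by
    have h1 : J.subschemeι z ∈ Set.range ⇑t := by
      rw [← hts, ← Scheme.IdealSheafData.support_pow_succ t.ker n, ← J.range_subschemeι]
      exact ⟨z, rfl⟩
    obtain ⟨x, hx⟩ := h1
    exact ⟨x, J.subschemeι.isClosedEmbedding.injective (by rw [← Scheme.Hom.comp_apply, hr]; exact hx)⟩
  obtain ⟨e⟩ := PnDualLib.nonempty_ext_homMod_add hF 2 G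
  let H := CohCmpLib.homMod F G
  haveI : Coh.IsQCoh H := BoxSurjLib.isQCoh_homMod hF
  have hk : CycKSuppLib.Kil J.subschemeι H := CycKSuppLib.kil_of_killed _ (killed_homMod J.subschemeι F G (by
    rw [J.ker_subschemeι]; exact hn))
  haveI : Coh.IsQCoh ((Scheme.Modules.pullback J.subschemeι).obj H) := KFlatLib.isQCoh_pullback _ _
  haveI : Subsingleton (Coh.HH J.subscheme ((Scheme.Modules.pullback J.subschemeι).obj H) 2) :=
    QCohLib.subsingleton_HH_affine _ 2 two_pos
  haveI : Subsingleton (Coh.HH X ((Coh.push J.subschemeι).obj ((Scheme.Modules.pullback J.subschemeι).obj H)) 2) := by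
    obtain ⟨E⟩ := QCohLib.nonempty_HH_push J.subschemeι ((Scheme.Modules.pullback J.subschemeι).obj H) 2
    first
      | exact E.toEquiv.subsingleton
      | exact E.symm.toEquiv.subsingleton
  haveI : Subsingleton (Coh.HH X H 2) :=
    SerreVanLib.subsingleton_HH_of_iso (CycKSuppLib.pushPullIso J.subschemeι hk).symm 2 ‹_›
  haveI : Subsingleton (CohCmpLib.HC X H 2) := ‹_›
  exact e.toEquiv.subsingleton

theorem subsingleton_stalk_of_isZero_restrict {X : Scheme.{u}} (M : X.Modules) {U : X.Opens}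
    (h : IsZero (M.restrict U.ι)) {x : X} (hx : x ∈ U) : Subsingleton (M.presheaf.stalk x) := by
  refine subsingleton_of_forall_eq 0 fun z => ?_
  obtain ⟨V, hxV, s, rfl⟩ := TopCat.Presheaf.exists_germ_eq M.presheaf z
  have hle : U.ι ''ᵁ (U.ι ⁻¹ᵁ V) ≤ V := Scheme.Hom.image_preimage_le _ _
  haveI : Subsingleton Γ(M, U.ι ''ᵁ (U.ι ⁻¹ᵁ V)) := by
    have h' := h
    rw [IsZero.iff_id_eq_zero] at h'
    exact subsingleton_of_forall_eq 0 fun z => congr(Scheme.Modules.Hom.app $h' (U.ι ⁻¹ᵁ V) z)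
  have hx' : x ∈ U.ι ''ᵁ (U.ι ⁻¹ᵁ V) := ⟨⟨x, hx⟩, hxV, rfl⟩
  rw [← TopCat.Presheaf.germ_res_apply M.presheaf (homOfLE hle) x hx' s]
  exact (congrArg (M.presheaf.germ _ x hx') (Subsingleton.elim _ 0)).trans (map_zero _)

theorem exists_lift_subscheme {X T : Scheme.{u}} [IsNoetherian X] (I : X.IdealSheafData) (hI : I ^ 2 = ⊥)
    (t : T ⟶ X) [IsClosedImmersion t] [IsAffine T] (W : X.Opens) (hW : (W : Set X)ᶜ ⊆ Set.range ⇑t)
    (hiso : I.comap W.ι = ⊥) (E₀ : I.subscheme.Modules) (hE₀ : FlatMod.IsFinLocFree E₀) :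
    ∃ E : X.Modules, FlatMod.IsFinLocFree E ∧ Nonempty ((Scheme.Modules.pullback I.subschemeι).obj E ≅ E₀) := by
  haveI : EnoughInjectives I.subscheme.Modules :=
    ModSiteLib.sheafOfModules_enoughInjectives (R := I.subscheme.ringCatSheaf)
  haveI : HasExt.{u} I.subscheme.Modules := hasExt_of_enoughInjectives.{u} _
  haveI : IsLocallyNoetherian I.subscheme := LocallyOfFiniteType.isLocallyNoetherian I.subschemeι
  haveI : CompactSpace I.subscheme := QuasiCompact.compactSpace_of_compactSpace I.subschemeι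
  haveI : IsNoetherian I.subscheme := ⟨⟩
  haveI := CycKSuppLib.isIso_counit I.subschemeι E₀
  haveI := KFlatLib.isIso_pullθ I.subschemeι (ClSub.idealMod I) ((Scheme.Modules.pushforward I.subschemeι).obj E₀)
  let M := (Scheme.Modules.pullback I.subschemeι).obj (ClSub.idealMod I)
  let c : VBExtLib.coef I E₀ ≅ CohB1.tensorMod M E₀ :=
    asIso (KFlatLib.pullθ I.subschemeι (ClSub.idealMod I) ((Scheme.Modules.pushforward I.subschemeι).obj E₀)) ≪≫
      ((DCoh.tensorBi (X := I.subscheme)).obj _).mapIso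
        (asIso ((Scheme.Modules.pullbackPushforwardAdjunction I.subschemeι).counit.app E₀))
  have hIc : Coh.IsCoh (ClSub.idealMod I) := SurfExtLib.isCoh_idealMod I
  haveI : Coh.IsQCoh (ClSub.idealMod I) := hIc.1
  have hMc : Coh.IsCoh M := ConsLib.isCoh_pullback I.subschemeι hIc
  have hG : Coh.IsCoh (VBExtLib.coef I E₀) :=
    by
    haveI := hMc.1
    haveI := (Groth.Agent.PerfLib.isCoh_of_isFinLocFree hE₀).1
    exact QCohLib.isCoh_of_iso c.symm ⟨(Groth.Agent.S2297.result M E₀).1,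
      (Groth.Agent.S2297.result M E₀).2 hMc.2 (Groth.Agent.PerfLib.isCoh_of_isFinLocFree hE₀).2⟩
  have hsupp : CohB1.support (VBExtLib.coef I E₀) ⊆ Set.range ⇑(pullback.fst I.subschemeι t) := by
    intro x hx
    rw [DevissLib.support_iso c] at hx
    have h1 : x ∈ CohB1.support M := by
      apply CohGenLib.support_tensor_subset E₀ M
      first
        | exact (Set.ext_iff.1 (DevissLib.support_iso (KFlatLib.tensSwap M E₀)) x).1 hx
        | exact (Set.ext_iff.1 (DevissLib.support_iso (KFlatLib.tensSwap M E₀)) x).2 hx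
        | exact (Set.ext_iff.1 (DevissLib.support_iso (KFlatLib.tensSwap E₀ M)) x).1 hx
        | exact (Set.ext_iff.1 (DevissLib.support_iso (KFlatLib.tensSwap E₀ M)) x).2 hx
    have h2 : I.subschemeι x ∈ CohB1.support (ClSub.idealMod I) := by
      have h := Groth.Agent.S4357.result I.subschemeι (ClSub.idealMod I) hIc.2
      exact (Set.ext_iff.1 h x).1 h1
    rw [Scheme.Pullback.range_fst]
    refine hW fun hxW => h2 ?_
    have hz := BlowRegLib.isZero_idealMod_restrict I W hiso
    have : Subsingleton ((ClSub.idealMod I).presheaf.stalk (W.ι ⟨I.subschemeι x, hxW⟩)) :=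
      subsingleton_stalk_of_isZero_restrict _ hz hxW
    exact this
  haveI : IsAffine (pullback I.subschemeι t) := isAffine_of_isAffineHom (pullback.snd I.subschemeι t)
  haveI := SmDefLib.surjective_subschemeι hI
  exact VBExtLib.exists_lift I hI hE₀ (subsingleton_ext_supp (pullback.fst I.subschemeι t) hE₀ hG hsupp)

theorem exists_lift_sq {Z X T : Scheme.{u}} [IsNoetherian X] (i : Z ⟶ X) [IsClosedImmersion i]
    (hI : i.ker ^ 2 = ⊥) (t : T ⟶ X) [IsClosedImmersion t] [IsAffine T] (W : X.Opens)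
    (hW : (W : Set X)ᶜ ⊆ Set.range ⇑t) (hiso : i.ker.comap W.ι = ⊥)
    (E₀ : Z.Modules) (hE₀ : FlatMod.IsFinLocFree E₀) :
    ∃ E : X.Modules, FlatMod.IsFinLocFree E ∧ Nonempty ((Scheme.Modules.pullback i).obj E ≅ E₀) := by
  let τ := i.toImage
  obtain ⟨E, hE, ⟨e⟩⟩ := exists_lift_subscheme i.ker hI t W hW hiso ((Scheme.Modules.pullback (inv τ)).obj E₀)
    (KFlatLib.isFinLocFree_pull _ hE₀)
  refine ⟨E, hE, ⟨?_⟩⟩
  exact (Scheme.Modules.pullbackCongr (i.toImage_imageι).symm).app E ≪≫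
    ((Scheme.Modules.pullbackComp τ i.imageι).app E).symm ≪≫ (Scheme.Modules.pullback τ).mapIso e ≪≫
    (Scheme.Modules.pullbackComp τ (inv τ)).app E₀ ≪≫ (Scheme.Modules.pullbackCongr (IsIso.hom_inv_id τ)).app E₀ ≪≫
    (Scheme.Modules.pullbackId Z).app E₀

theorem exists_lift_pow (m : ℕ) : ∀ {Z X : Scheme.{u}} (i : Z ⟶ X) [IsClosedImmersion i] [IsNoetherian X],
    i.ker ^ (2 ^ m) = ⊥ → ∀ {T : Scheme.{u}} (t : T ⟶ X) [IsClosedImmersion t] [IsAffine T] (W : X.Opens),
    (W : Set X)ᶜ ⊆ Set.range ⇑t → i.ker.comap W.ι = ⊥ → ∀ E₀ : Z.Modules, FlatMod.IsFinLocFree E₀ →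
      ∃ E : X.Modules, FlatMod.IsFinLocFree E ∧ Nonempty ((Scheme.Modules.pullback i).obj E ≅ E₀) := by
  induction m with
  | zero =>
    intro Z X i _ _ hI T t _ _ W hW hiso E₀ hE₀
    rw [pow_zero, pow_one] at hI
    refine exists_lift_sq i ?_ t W hW hiso E₀ hE₀
    ext U : 2
    rw [hI]
    simp
  | succ m ih =>
    intro Z X i _ _ hI T t _ _ W hW hiso E₀ hE₀
    let J := i.ker ^ 2
    have hle : J ≤ i.ker := fun U => by
      simp only [J, Scheme.IdealSheafData.ideal_pow, Pi.pow_apply]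
      exact Ideal.pow_le_self two_ne_zero
    let k : Z ⟶ J.subscheme := i.toImage ≫ Scheme.IdealSheafData.inclusion hle
    have hk : k ≫ J.subschemeι = i := by simp [k]
    haveI : IsClosedImmersion (k ≫ J.subschemeι) := by rw [hk]; infer_instance
    haveI : IsClosedImmersion k := IsClosedImmersion.of_comp k J.subschemeι
    have hkI : IsPullback (𝟙 Z) k i J.subschemeι := IsPullback.of_horiz_isIso_mono ⟨by rw [Category.id_comp, hk]⟩
    have hkk : k.ker = i.ker.comap J.subschemeι := FComplLib.ker_of_isPullback hkI.flip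
    have hker : k.ker ^ 2 = ⊥ := by
      rw [hkk, ← FComplLib.comap_pow_succ J.subschemeι i.ker 1]
      show J.comap J.subschemeι = ⊥
      have h2 := FComplLib.ker_of_isPullback (IsKernelPair.id_of_mono J.subschemeι)
      rw [J.ker_subschemeι] at h2
      rw [← h2]
      simp
    haveI : IsLocallyNoetherian J.subscheme := LocallyOfFiniteType.isLocallyNoetherian J.subschemeι
    haveI : CompactSpace J.subscheme := QuasiCompact.compactSpace_of_compactSpace J.subschemeι
    haveI : IsNoetherian J.subscheme := ⟨⟩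
    haveI : IsAffine (pullback J.subschemeι t) := isAffine_of_isAffineHom (pullback.snd J.subschemeι t)
    obtain ⟨E₁, hE₁, ⟨e₁⟩⟩ := exists_lift_sq k hker (pullback.fst J.subschemeι t) (J.subschemeι ⁻¹ᵁ W)
      (fun x hx => by rw [Scheme.Pullback.range_fst]; exact hW hx) (by
        rw [hkk, ← Scheme.IdealSheafData.comap_comp, ← morphismRestrict_ι J.subschemeι W,
          Scheme.IdealSheafData.comap_comp, hiso, Scheme.IdealSheafData.comap_bot]) E₀ hE₀
    obtain ⟨E, hE, ⟨e⟩⟩ := ih J.subschemeι (by rw [J.ker_subschemeι, ← pow_mul, ← pow_succ']; exact hI) t W hW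
      (by
        rw [J.ker_subschemeι]
        exact eq_bot_iff.2 ((Scheme.IdealSheafData.comap_mono W.ι hle).trans hiso.le)) E₁ hE₁
    exact ⟨E, hE, ⟨(Scheme.Modules.pullbackCongr hk.symm).app E ≪≫
      ((Scheme.Modules.pullbackComp k J.subschemeι).app E).symm ≪≫ (Scheme.Modules.pullback k).mapIso e ≪≫ e₁⟩⟩

theorem comap_ker_of_isIso_restrict {Z X : Scheme.{u}} (i : Z ⟶ X) [IsClosedImmersion i] (W : X.Opens)
    [IsIso (i ∣_ W)] : i.ker.comap W.ι = ⊥ := by
  rw [← FComplLib.ker_of_isPullback (isPullback_morphismRestrict i W)]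
  exact Scheme.Hom.ker_eq_bot_of_isIso _

/-- The affine dense part of the exceptional set. -/
theorem exists_open_affine_part {X : Scheme.{u}} [IsNoetherian X] (W : X.Opens) :
    ∃ V : X.Opens, W ≤ V ∧ (W : Set X)ᶜ ⊆ closure ((V : Set X) ∩ (W : Set X)ᶜ) ∧
      ∃ (T : Scheme.{u}) (g : T ⟶ (V : Scheme.{u})), IsClosedImmersion g ∧ IsAffine T ∧
        Set.range (g ≫ V.ι).base = (V : Set X) ∩ (W : Set X)ᶜ := by
  let Y : Closeds X := ⟨(W : Set X)ᶜ, W.2.isClosed_compl⟩
  let J := Scheme.IdealSheafData.vanishingIdeal Y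
  have hrange : Set.range ⇑J.subschemeι = (W : Set X)ᶜ := by
    rw [J.range_subschemeι, Scheme.IdealSheafData.coe_support_vanishingIdeal]
    rfl
  haveI : CompactSpace J.subscheme := QuasiCompact.compactSpace_of_compactSpace J.subschemeι
  haveI : NoetherianSpace J.subscheme := J.subschemeι.isEmbedding.isInducing.noetherianSpace
  obtain ⟨U, hU, -, hUd⟩ := AffStratLib.exists_dense_affine J.subscheme NoetherianSpace.finite_irreducibleComponents
  obtain ⟨O, hO, hOU⟩ := J.subschemeι.isClosedEmbedding.isInducing.isOpen_iff.1 U.2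
  let V : X.Opens := W ⊔ ⟨O, hO⟩
  have hpre : J.subschemeι ⁻¹ᵁ V = U := by
    refine Opens.ext ?_
    show J.subschemeι ⁻¹' ((W : Set X) ∪ O) = (U : Set J.subscheme)
    rw [Set.preimage_union, hOU, show J.subschemeι ⁻¹' (W : Set X) = ∅ from Set.eq_empty_of_forall_notMem fun z hz =>
      (hrange.le ⟨z, rfl⟩) hz, Set.empty_union]
    rfl
  have himg : J.subschemeι '' (U : Set J.subscheme) = (V : Set X) ∩ (W : Set X)ᶜ := by
    rw [← hpre, ← hrange]
    show J.subschemeι '' (⇑J.subschemeι ⁻¹' (V : Set X)) = _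
    exact Set.image_preimage_eq_inter_range
  refine ⟨V, le_sup_left, ?_, (J.subschemeι ⁻¹ᵁ V).toScheme, J.subschemeι ∣_ V, inferInstance, hpre.symm ▸ hU, ?_⟩
  · rw [← himg, ← hrange]
    rintro _ ⟨z, rfl⟩
    exact image_closure_subset_closure_image J.subschemeι.continuous ⟨z, hUd z, rfl⟩
  · rw [morphismRestrict_ι, ← himg, ← hpre]
    show Set.range (⇑J.subschemeι ∘ ⇑(J.subschemeι ⁻¹ᵁ V).ι) = _
    rw [Set.range_comp, Scheme.Opens.range_ι]

theorem exists_lift_open {X X' : Scheme.{u}} [IsNoetherian X] (f : X' ⟶ X) [IsClosedImmersion f] [Surjective f]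
    (W V : X.Opens) [IsIso (f ∣_ W)] (hWV : W ≤ V) {T : Scheme.{u}} (g : T ⟶ (V : Scheme.{u}))
    [IsClosedImmersion g] [IsAffine T] (hg : Set.range (g ≫ V.ι).base = (V : Set X) ∩ (W : Set X)ᶜ)
    (E' : (f ⁻¹ᵁ V : Scheme.{u}).Modules) (hE' : FlatMod.IsFinLocFree E') :
    ∃ E : (V : Scheme.{u}).Modules, FlatMod.IsFinLocFree E ∧
      Nonempty ((Scheme.Modules.pullback (f ∣_ V)).obj E ≅ E') := by
  haveI : CompactSpace ↥(V : Scheme.{u}) := isCompact_iff_compactSpace.1 (NoetherianSpace.isCompact (V : Set X))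
  haveI : IsNoetherian (V : Scheme.{u}) := ⟨⟩
  haveI : Surjective (f ∣_ V) := MorphismProperty.IsStableUnderBaseChange.of_isPullback
    (P := @Surjective) (isPullback_morphismRestrict f V).flip inferInstance
  obtain ⟨m, hm⟩ := AffLiftLib.exists_pow_ker_eq_bot (f ∣_ V)
  refine exists_lift_pow m (f ∣_ V) hm g (V.ι ⁻¹ᵁ W) (fun x hx => ?_) ?_ E' hE'
  · obtain ⟨z, hz⟩ := hg.ge ⟨x.2, hx⟩
    exact ⟨z, Subtype.ext hz⟩
  · rw [FComplLib.ker_of_isPullback (isPullback_morphismRestrict f V), ← Scheme.IdealSheafData.comap_comp]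
    have hle : Set.range ⇑((V.ι ⁻¹ᵁ W).ι ≫ V.ι) ⊆ Set.range ⇑W.ι := by
      rw [Scheme.Opens.range_ι]
      rintro _ ⟨z, rfl⟩
      exact z.2
    rw [← IsOpenImmersion.lift_fac W.ι _ hle, Scheme.IdealSheafData.comap_comp, comap_ker_of_isIso_restrict f W,
      Scheme.IdealSheafData.comap_bot]

end ResLiftLib
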