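import Groth.Agent.ResLiftLib.Main
import Groth.Agent.LiftHomLib.Main
import Groth.Agent.AmpleDevLib.Pull
import Groth.Agent.RankLocusLib.Mod
import Groth.Agent.CohCmpLib.StratIff
import Groth.Agent.CohCmpLib.UnitFibre
import Groth.Prelude.Def_KSix

/-!
# Sections and ample families lift along nilimmersions which are isomorphisms off an affine closed set
-/

set_option autoImplicit false
set_option linter.style.haveILetI false
set_option linter.unusedSectionVars false
set_option backward.isDefEq.respectTransparency false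
set_option maxHeartbeats 1000000
set_option synthInstance.maxHeartbeats 400000

universe u

open CategoryTheory CategoryTheory.Limits AlgebraicGeometry TopologicalSpace Opposite

noncomputable section

namespace ResLiftLib

theorem subsingleton_ext_supp' {X T : Scheme.{u}} [IsNoetherian X] (t : T ⟶ X) [IsClosedImmersion t] [IsAffine T]
    [HasExt.{u} X.Modules] {F : X.Modules} (hF : FlatMod.IsFinLocFree F) {G : X.Modules} (hG : Coh.IsCoh G)
    (hs : CohB1.support G ⊆ Set.range ⇑t) {i : ℕ} (hi : 0 < i) : Subsingleton (Abelian.Ext.{u} F G i) := by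
  haveI : Coh.IsQCoh G := hG.1
  have hts : (t.ker.support : Set X) = Set.range ⇑t := by
    rw [Scheme.Hom.support_ker, t.isClosedEmbedding.isClosed_range.closure_eq]
  obtain ⟨n, hn⟩ := BlowRegLib.exists_killing G t.ker
    (fun V => by
      haveI := IsLocallyNoetherian.component_noetherian (X := X) V
      exact IsNoetherian.noetherian _)
    hG.2 (hts.symm ▸ hs)
  let J := t.ker ^ (n + 1)
  have hle : J ≤ t.ker := fun U => by
    simp only [J, Scheme.IdealSheafData.ideal_pow, Pi.pow_apply]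
    exact Ideal.pow_le_self (Nat.succ_ne_zero n)
  let r : T ⟶ J.subscheme := t.toImage ≫ Scheme.IdealSheafData.inclusion hle
  have hr : r ≫ J.subschemeι = t := by simp [r]
  haveI : IsClosedImmersion (r ≫ J.subschemeι) := by rw [hr]; infer_instance
  haveI : IsClosedImmersion r := IsClosedImmersion.of_comp r J.subschemeι
  haveI : IsAffine J.subscheme := Groth.Agent.S0440.result r fun z => by
    have h1 : J.subschemeι z ∈ Set.range ⇑t := by
      rw [← hts, ← Scheme.IdealSheafData.support_pow_succ t.ker n, ← J.range_subschemeι]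
      exact ⟨z, rfl⟩
    obtain ⟨x, hx⟩ := h1
    exact ⟨x, J.subschemeι.isClosedEmbedding.injective (by rw [← Scheme.Hom.comp_apply, hr]; exact hx)⟩
  obtain ⟨e⟩ := PnDualLib.nonempty_ext_homMod_add hF i G
  let H := CohCmpLib.homMod F G
  haveI : Coh.IsQCoh H := BoxSurjLib.isQCoh_homMod hF
  have hk : CycKSuppLib.Kil J.subschemeι H := CycKSuppLib.kil_of_killed _ (killed_homMod J.subschemeι F G (by
    rw [J.ker_subschemeι]; exact hn))
  haveI : Coh.IsQCoh ((Scheme.Modules.pullback J.subschemeι).obj H) := KFlatLib.isQCoh_pullback _ _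
  haveI : Subsingleton (Coh.HH J.subscheme ((Scheme.Modules.pullback J.subschemeι).obj H) i) :=
    QCohLib.subsingleton_HH_affine _ i hi
  haveI : Subsingleton (Coh.HH X ((Coh.push J.subschemeι).obj ((Scheme.Modules.pullback J.subschemeι).obj H)) i) := by
    obtain ⟨E⟩ := QCohLib.nonempty_HH_push J.subschemeι ((Scheme.Modules.pullback J.subschemeι).obj H) i
    first
      | exact E.toEquiv.subsingleton
      | exact E.symm.toEquiv.subsingleton
  haveI : Subsingleton (Coh.HH X H i) :=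
    SerreVanLib.subsingleton_HH_of_iso (CycKSuppLib.pushPullIso J.subschemeι hk).symm i ‹_›
  haveI : Subsingleton (CohCmpLib.HC X H i) := ‹_›
  exact e.toEquiv.subsingleton

theorem coh_supp_tensor {X T : Scheme.{u}} [IsNoetherian X] (I : X.IdealSheafData)
    (t : T ⟶ X) [IsClosedImmersion t] (W : X.Opens) (hW : (W : Set X)ᶜ ⊆ Set.range ⇑t)
    (hiso : I.comap W.ι = ⊥) (E₀ : I.subscheme.Modules) (hE₀ : FlatMod.IsFinLocFree E₀) :
    Coh.IsCoh (CohB1.tensorMod ((Scheme.Modules.pullback I.subschemeι).obj (ClSub.idealMod I)) E₀) ∧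
      CohB1.support (CohB1.tensorMod ((Scheme.Modules.pullback I.subschemeι).obj (ClSub.idealMod I)) E₀) ⊆
        Set.range ⇑(pullback.fst I.subschemeι t) := by
  haveI : IsLocallyNoetherian I.subscheme := LocallyOfFiniteType.isLocallyNoetherian I.subschemeι
  let M := (Scheme.Modules.pullback I.subschemeι).obj (ClSub.idealMod I)
  have hIc : Coh.IsCoh (ClSub.idealMod I) := SurfExtLib.isCoh_idealMod I
  haveI : Coh.IsQCoh (ClSub.idealMod I) := hIc.1
  have hMc : Coh.IsCoh M := ConsLib.isCoh_pullback I.subschemeι hIc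
  refine ⟨?_, fun x hx => ?_⟩
  · haveI := hMc.1
    haveI := (Groth.Agent.PerfLib.isCoh_of_isFinLocFree hE₀).1
    exact ⟨(Groth.Agent.S2297.result M E₀).1,
      (Groth.Agent.S2297.result M E₀).2 hMc.2 (Groth.Agent.PerfLib.isCoh_of_isFinLocFree hE₀).2⟩
  · have h1 : x ∈ CohB1.support M := by
      apply CohGenLib.support_tensor_subset E₀ M
      first
        | exact (Set.ext_iff.1 (DevissLib.support_iso (KFlatLib.tensSwap M E₀)) x).1 hx
        | exact (Set.ext_iff.1 (DevissLib.support_iso (KFlatLib.tensSwap M E₀)) x).2 hx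
        | exact (Set.ext_iff.1 (DevissLib.support_iso (KFlatLib.tensSwap E₀ M)) x).1 hx
        | exact (Set.ext_iff.1 (DevissLib.support_iso (KFlatLib.tensSwap E₀ M)) x).2 hx
    have h2 : I.subschemeι x ∈ CohB1.support (ClSub.idealMod I) := by
      have h := Groth.Agent.S4357.result I.subschemeι (ClSub.idealMod I) hIc.2
      exact (Set.ext_iff.1 h x).1 h1
    rw [Scheme.Pullback.range_fst]
    refine hW fun hxW => h2 ?_
    have hz := BlowRegLib.isZero_idealMod_restrict I W hiso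
    have : Subsingleton ((ClSub.idealMod I).presheaf.stalk (W.ι ⟨I.subschemeι x, hxW⟩)) :=
      subsingleton_stalk_of_isZero_restrict _ hz hxW
    exact this

theorem isFinLocFree_of_invertible' {X : Scheme.{u}} {L : X.Modules} (hL : PicF.IsInvertible L) :
    FlatMod.IsFinLocFree L := fun x => by
  obtain ⟨U, hU, ⟨e⟩⟩ := hL x
  exact ⟨U, 1, hU, ⟨e ≪≫ (Limits.coproductUniqueIso fun _ : Fin 1 => Coh.structureModule (U : Scheme.{u})).symm⟩⟩

/-- All morphisms between the pullbacks come from morphisms. -/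
def LiftsHom {Z X : Scheme.{u}} (i : Z ⟶ X) (E F : X.Modules) : Prop :=
  ∀ u₀ : (Scheme.Modules.pullback i).obj E ⟶ (Scheme.Modules.pullback i).obj F,
    ∃ u : E ⟶ F, (Scheme.Modules.pullback i).map u = u₀

theorem LiftsHom.comp {Z Y X : Scheme.{u}} {k : Z ⟶ Y} {j : Y ⟶ X} {E F : X.Modules}
    (hk : LiftsHom k ((Scheme.Modules.pullback j).obj E) ((Scheme.Modules.pullback j).obj F))
    (hj : LiftsHom j E F) : LiftsHom (k ≫ j) E F := fun u₀ => by
  let c := Scheme.Modules.pullbackComp k j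
  obtain ⟨u₁, h₁⟩ := hk (c.hom.app E ≫ u₀ ≫ c.inv.app F)
  obtain ⟨u, h⟩ := hj u₁
  refine ⟨u, ?_⟩
  have hn := c.hom.naturality u
  rw [Functor.comp_map, h, h₁] at hn
  simp only [Category.assoc, Iso.inv_hom_id_app, Category.comp_id] at hn
  exact ((cancel_epi (c.hom.app E)).1 hn.symm)

theorem liftsHom_of_isIso {Z X : Scheme.{u}} (τ : Z ⟶ X) [IsIso τ] (E F : X.Modules) : LiftsHom τ E F := fun u₀ => by
  let e : X.Modules ≌ Z.Modules := CategoryTheory.Equivalence.mk (Scheme.Modules.pullback τ)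
    (Scheme.Modules.pullback (inv τ))
    ((Scheme.Modules.pullbackId X).symm ≪≫ Scheme.Modules.pullbackCongr (IsIso.inv_hom_id τ).symm ≪≫
      (Scheme.Modules.pullbackComp (inv τ) τ).symm)
    (Scheme.Modules.pullbackComp τ (inv τ) ≪≫ Scheme.Modules.pullbackCongr (IsIso.hom_inv_id τ) ≪≫
      Scheme.Modules.pullbackId Z)
  haveI : (Scheme.Modules.pullback τ).IsEquivalence := e.isEquivalence_functor
  exact ⟨(Scheme.Modules.pullback τ).preimage u₀, Functor.map_preimage _ _⟩

theorem liftsHom_subscheme {X T : Scheme.{u}} [IsNoetherian X] (I : X.IdealSheafData) (hI : I ^ 2 = ⊥)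
    (t : T ⟶ X) [IsClosedImmersion t] [IsAffine T] (W : X.Opens) (hW : (W : Set X)ᶜ ⊆ Set.range ⇑t)
    (hiso : I.comap W.ι = ⊥) {E F : X.Modules} (hE : FlatMod.IsFinLocFree E) (hF : FlatMod.IsFinLocFree F) :
    LiftsHom I.subschemeι E F := fun u₀ => by
  haveI : EnoughInjectives I.subscheme.Modules :=
    ModSiteLib.sheafOfModules_enoughInjectives (R := I.subscheme.ringCatSheaf)
  haveI : HasExt.{u} I.subscheme.Modules := hasExt_of_enoughInjectives.{u} _
  haveI : IsLocallyNoetherian I.subscheme := LocallyOfFiniteType.isLocallyNoetherian I.subschemeι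
  haveI : CompactSpace I.subscheme := QuasiCompact.compactSpace_of_compactSpace I.subschemeι
  haveI : IsNoetherian I.subscheme := ⟨⟩
  haveI : IsAffine (pullback I.subschemeι t) := isAffine_of_isAffineHom (pullback.snd I.subschemeι t)
  obtain ⟨hG, hs⟩ := coh_supp_tensor I t W hW hiso _ (KFlatLib.isFinLocFree_pull I.subschemeι hF)
  exact LiftHomLib.exists_lift_hom I hI hE hF
    (subsingleton_ext_supp' (pullback.fst I.subschemeι t) (KFlatLib.isFinLocFree_pull I.subschemeι hE) hG hs one_pos)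
    u₀

theorem liftsHom_sq {Z X T : Scheme.{u}} [IsNoetherian X] (i : Z ⟶ X) [IsClosedImmersion i]
    (hI : i.ker ^ 2 = ⊥) (t : T ⟶ X) [IsClosedImmersion t] [IsAffine T] (W : X.Opens)
    (hW : (W : Set X)ᶜ ⊆ Set.range ⇑t) (hiso : i.ker.comap W.ι = ⊥)
    {E F : X.Modules} (hE : FlatMod.IsFinLocFree E) (hF : FlatMod.IsFinLocFree F) : LiftsHom i E F := by
  have h := (liftsHom_of_isIso i.toImage ((Scheme.Modules.pullback i.ker.subschemeι).obj E)
    ((Scheme.Modules.pullback i.ker.subschemeι).obj F)).comp (liftsHom_subscheme i.ker hI t W hW hiso hE hF)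
  have hi : i.toImage ≫ i.ker.subschemeι = i := i.toImage_imageι
  rwa [hi] at h

theorem liftsHom_pow (m : ℕ) : ∀ {Z X : Scheme.{u}} (i : Z ⟶ X) [IsClosedImmersion i] [IsNoetherian X],
    i.ker ^ (2 ^ m) = ⊥ → ∀ {T : Scheme.{u}} (t : T ⟶ X) [IsClosedImmersion t] [IsAffine T] (W : X.Opens),
    (W : Set X)ᶜ ⊆ Set.range ⇑t → i.ker.comap W.ι = ⊥ → ∀ {E F : X.Modules}, FlatMod.IsFinLocFree E →
      FlatMod.IsFinLocFree F → LiftsHom i E F := by
  induction m with
  | zero =>
    intro Z X i _ _ hI T t _ _ W hW hiso E F hE hF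
    rw [pow_zero, pow_one] at hI
    refine liftsHom_sq i ?_ t W hW hiso hE hF
    ext U : 2
    rw [hI]
    simp
  | succ m ih =>
    intro Z X i _ _ hI T t _ _ W hW hiso E F hE hF
    let J := i.ker ^ 2
    have hle : J ≤ i.ker := fun U => by
      simp only [J, Scheme.IdealSheafData.ideal_pow, Pi.pow_apply]
      exact Ideal.pow_le_self two_ne_zero
    let k : Z ⟶ J.subscheme := i.toImage ≫ Scheme.IdealSheafData.inclusion hle
    have hk : k ≫ J.subschemeι = i := by simp [k]
    haveI : IsClosedImmersion (k ≫ J.subschemeι) := by rw [hk]; infer_instance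
    haveI : IsClosedImmersion k := IsClosedImmersion.of_comp k J.subschemeι
    have hkI : IsPullback (𝟙 Z) k i J.subschemeι := IsPullback.of_horiz_isIso_mono ⟨by rw [Category.id_comp, hk]⟩
    have hkk : k.ker = i.ker.comap J.subschemeι := FComplLib.ker_of_isPullback hkI.flip
    have hker : k.ker ^ 2 = ⊥ := by
      rw [hkk, ← FComplLib.comap_pow_succ J.subschemeι i.ker 1]
      show J.comap J.subschemeι = ⊥
      have h2 := FComplLib.ker_of_isPullback (IsKernelPair.id_of_mono J.subschemeι)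
      rw [J.ker_subschemeι] at h2
      rw [← h2]
      simp
    haveI : IsLocallyNoetherian J.subscheme := LocallyOfFiniteType.isLocallyNoetherian J.subschemeι
    haveI : CompactSpace J.subscheme := QuasiCompact.compactSpace_of_compactSpace J.subschemeι
    haveI : IsNoetherian J.subscheme := ⟨⟩
    haveI : IsAffine (pullback J.subschemeι t) := isAffine_of_isAffineHom (pullback.snd J.subschemeι t)
    have h1 := liftsHom_sq k hker (pullback.fst J.subschemeι t) (J.subschemeι ⁻¹ᵁ W)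
      (fun x hx => by rw [Scheme.Pullback.range_fst]; exact hW hx) (by
        rw [hkk, ← Scheme.IdealSheafData.comap_comp, ← morphismRestrict_ι J.subschemeι W,
          Scheme.IdealSheafData.comap_comp, hiso, Scheme.IdealSheafData.comap_bot])
      (KFlatLib.isFinLocFree_pull J.subschemeι hE) (KFlatLib.isFinLocFree_pull J.subschemeι hF)
    have h2 := ih J.subschemeι (by rw [J.ker_subschemeι, ← pow_mul, ← pow_succ']; exact hI) t W hW
      (by
        rw [J.ker_subschemeι]
        exact eq_bot_iff.2 ((Scheme.IdealSheafData.comap_mono W.ι hle).trans hiso.le)) hE hF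
    rw [← hk]
    exact h1.comp h2

theorem isInvertible_of_pullback {Z X : Scheme.{u}} (k : Z ⟶ X) [Surjective k] {E : X.Modules}
    (hE : FlatMod.IsFinLocFree E) (h : PicF.IsInvertible ((Scheme.Modules.pullback k).obj E)) :
    PicF.IsInvertible E := fun x => by
  obtain ⟨z, rfl⟩ := k.surjective x
  obtain ⟨U, n, hU, ⟨e⟩⟩ := hE (k z)
  obtain ⟨O, hO, ⟨a⟩⟩ := h z
  let q : FlatMod.freeMod (↑O) 1 ≅ Coh.structureModule (O : Scheme.{u}) :=
    Limits.coproductUniqueIso fun _ : Fin 1 => Coh.structureModule (O : Scheme.{u})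
  have h1 : RankLocusLib.FreeAlong n E U.ι := ⟨(Scheme.Modules.restrictFunctorIsoPullback U.ι).symm.app E ≪≫ e⟩
  have h2 := RankLocusLib.freeAlong_comp h1 (k ∣_ U)
  rw [morphismRestrict_ι] at h2
  obtain ⟨b⟩ := (RankLocusLib.freeAlong_pullback_iff k (k ⁻¹ᵁ U).ι).2 h2
  obtain rfl := CohCmpLib.rank_unique ((Scheme.Modules.pullback k).obj E) (O := k ⁻¹ᵁ U) (O' := O) hU hO
    ⟨(Scheme.Modules.restrictFunctorIsoPullback (k ⁻¹ᵁ U).ι).app _ ≪≫ b⟩ ⟨a ≪≫ q.symm⟩
  exact ⟨U, hU, ⟨e ≪≫ Limits.coproductUniqueIso fun _ : Fin 1 => Coh.structureModule (U : Scheme.{u})⟩⟩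

theorem ampleFamily_of_pullback {Z X T : Scheme.{u}} [IsNoetherian X] (k : Z ⟶ X) [IsClosedImmersion k]
    [Surjective k] (m : ℕ) (hm : k.ker ^ (2 ^ m) = ⊥) (t : T ⟶ X) [IsClosedImmersion t] [IsAffine T]
    (W : X.Opens) (hW : (W : Set X)ᶜ ⊆ Set.range ⇑t) (hiso : k.ker.comap W.ι = ⊥) {ι : Type u}
    (L : ι → X.Modules) (hL : ∀ i, FlatMod.IsFinLocFree (L i)) (L' : ι → Z.Modules) (hA : KSix.IsAmpleFamily L')
    (e : ∀ i, (Scheme.Modules.pullback k).obj (L i) ≅ L' i) : KSix.IsAmpleFamily L := by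
  obtain ⟨-, -, hinv', hgen⟩ := hA
  have hinv : ∀ i, PicF.IsInvertible (L i) := fun i => isInvertible_of_pullback k (hL i) (by
    intro z
    obtain ⟨U, hU, ⟨a⟩⟩ := hinv' i z
    exact ⟨U, hU, ⟨(Scheme.Modules.restrictFunctor U.ι).mapIso (e i) ≪≫ a⟩⟩)
  refine ⟨inferInstance, inferInstance, hinv, fun x => ?_⟩
  obtain ⟨z, rfl⟩ := k.surjective x
  obtain ⟨i, n, s', hz, hsa⟩ := hgen z
  have hM := AmpleThLib.tensorPow_isInvertible (hinv i) (n + 1)
  have hM' := AmpleThLib.tensorPow_isInvertible (hinv' i) (n + 1)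
  rw [AmpleThLib.genLocus_hom hM' s'] at hz hsa
  obtain ⟨φ₁, -⟩ := AmpleDevLib.exists_pullPowIso k (hinv i) (n + 1)
  obtain ⟨φ₂⟩ := CurveDualLib.nonempty_tensorPow_congr (e i) (n + 1)
  let φ := φ₁ ≪≫ φ₂
  have hf := isFinLocFree_of_invertible' hM
  have hone : FlatMod.IsFinLocFree (Coh.structureModule X) := fun y =>
    ⟨⊤, 1, trivial, ⟨(Scheme.Modules.restrictUnitIso _) ≪≫
      (Limits.coproductUniqueIso fun _ : Fin 1 => Coh.structureModule ((⊤ : X.Opens) : Scheme.{u})).symm⟩⟩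
  obtain ⟨s, hs⟩ := liftsHom_pow m k hm t W hW hiso hone hf
    ((KFlatLib.pullUnitIso k).hom ≫ s' ≫ φ.inv)
  let σ := s.app ⊤ (1 : Γ(X, ⊤))
  have hσ : KFlatLib.puSec k σ = φ.inv.app ⊤ (s'.app ⊤ (1 : Γ(Z, ⊤))) := by
    refine (KFlatLib.puSec_natural k s (U := ⊤) (1 : Γ(X, ⊤))).symm.trans ?_
    rw [hs]
    refine congrArg (fun y => φ.inv.app ⊤ (s'.app ⊤ y)) ?_
    refine (CohCmpLib.pullUnitIso_puSec k (U := ⊤) (1 : Γ(X, ⊤))).trans ?_
    exact map_one (k.app ⊤).hom
  have hpre : k ⁻¹ᵁ TwistLib.genSet hM σ = TwistLib.genSet hM' (s'.app ⊤ (1 : Γ(Z, ⊤))) := by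
    rw [← AmpleDevLib.genSet_puSec k hM σ]
    refine Eq.trans ?_ (AmpleThLib.genSet_iso hM' (AmpleDevLib.isInvertible_pb k hM) φ.symm _)
    exact congrArg _ hσ
  refine ⟨i, n, s, ?_, ?_⟩
  · rw [AmpleThLib.genLocus_hom hM s]
    rw [← hpre] at hz
    exact hz
  · rw [AmpleThLib.genLocus_hom hM s]
    rw [← hpre] at hsa
    haveI : IsAffine (k ⁻¹ᵁ TwistLib.genSet hM σ).toScheme := hsa
    exact Groth.Agent.S0440.result (k ∣_ TwistLib.genSet hM σ) fun y => by
      obtain ⟨w, hw⟩ := k.surjective y.1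
      have hmem : k w ∈ TwistLib.genSet hM σ := by rw [hw]; exact y.2
      exact ⟨⟨w, hmem⟩, Subtype.ext ((morphismRestrict_base_coe k _ _).trans hw)⟩

theorem exists_ampleFamily_lift {X X' : Scheme.{u}} [IsNoetherian X] (f : X' ⟶ X) [IsClosedImmersion f] [Surjective f]
    (W V : X.Opens) [IsIso (f ∣_ W)] (hWV : W ≤ V) {T : Scheme.{u}} (g : T ⟶ (V : Scheme.{u}))
    [IsClosedImmersion g] [IsAffine T] (hg : Set.range (g ≫ V.ι).base = (V : Set X) ∩ (W : Set X)ᶜ)
    {ι : Type u} (L' : ι → (f ⁻¹ᵁ V : Scheme.{u}).Modules) (hA : KSix.IsAmpleFamily L') :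
    ∃ L : ι → (V : Scheme.{u}).Modules, KSix.IsAmpleFamily L ∧
      ∀ i : ι, Nonempty ((Scheme.Modules.pullback (f ∣_ V)).obj (L i) ≅ L' i) := by
  choose L hL hn using fun i => exists_lift_open f W V hWV g hg (L' i) (isFinLocFree_of_invertible' (hA.2.2.1 i))
  refine ⟨L, ?_, hn⟩
  haveI : CompactSpace ↥(V : Scheme.{u}) := isCompact_iff_compactSpace.1 (NoetherianSpace.isCompact (V : Set X))
  haveI : IsNoetherian (V : Scheme.{u}) := ⟨⟩
  haveI : Surjective (f ∣_ V) := MorphismProperty.IsStableUnderBaseChange.of_isPullback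
    (P := @Surjective) (isPullback_morphismRestrict f V).flip inferInstance
  obtain ⟨m, hm⟩ := AffLiftLib.exists_pow_ker_eq_bot (f ∣_ V)
  refine ampleFamily_of_pullback (f ∣_ V) m hm g (V.ι ⁻¹ᵁ W) (fun x hx => ?_) ?_ L hL L' hA fun i => (hn i).some
  · obtain ⟨z, hz⟩ := hg.ge ⟨x.2, hx⟩
    exact ⟨z, Subtype.ext hz⟩
  · rw [FComplLib.ker_of_isPullback (isPullback_morphismRestrict f V), ← Scheme.IdealSheafData.comap_comp]
    have hle : Set.range ⇑((V.ι ⁻¹ᵁ W).ι ≫ V.ι) ⊆ Set.range ⇑W.ι := by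
      rw [Scheme.Opens.range_ι]
      rintro _ ⟨z, rfl⟩
      exact z.2
    rw [← IsOpenImmersion.lift_fac W.ι _ hle, Scheme.IdealSheafData.comap_comp, comap_ker_of_isIso_restrict f W,
      Scheme.IdealSheafData.comap_bot]

end ResLiftLib
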